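import Mathlib

/-! Lifting elementary abelian subgroups through a central extension by an elementary abelian 2-group. -/

set_option autoImplicit false

namespace CfsgLib.LinearThreeFour

open Subgroup

variable {L S M : Type*} [Group L] [Group S] [CommGroup M]
variable (ψ : L →* S) (α : M →* S)

/-- The data of a central extension together with an elementary abelian subgroup of the quotient. -/
structure Setting : Prop where
  surj : Function.Surjective ψ
  inj : Function.Injective α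
  central : ∀ z, ψ z = 1 → ∀ x, x * z = z * x
  two : ∀ z, ψ z = 1 → z * z = 1
  mtwo : ∀ a : M, a * a = 1

variable {ψ α}

/-- Squares vanish on the preimage, when the automorphisms induced are transitive and the rank is at
least three. -/
theorem Setting.sq_eq_one (st : Setting ψ α)
    (htrans : ∀ a b : M, a ≠ 1 → b ≠ 1 → ∃ g : S, g * α a * g⁻¹ = α b)
    (a b c : M) (ha : a ≠ 1) (hb : b ≠ 1) (hc : c ≠ 1) (hbc : b * c ≠ 1) (hab : a * b ≠ 1) (hac : a * c ≠ 1)
    (habc : a * (b * c) ≠ 1) {x : L} {m : M} (hx : ψ x = α m) : x * x = 1 := by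
  obtain ⟨u, hu⟩ := st.surj (α a)
  have hsqcen : ∀ (y : L) (k : M), ψ y = α k → ψ (y * y) = 1 := fun y k h => by
    rw [map_mul, h, ← map_mul, st.mtwo, map_one]
  have hconst : ∀ (y : L) (k : M), k ≠ 1 → ψ y = α k → y * y = u * u := by
    intro y k hk hy
    obtain ⟨g, hg⟩ := htrans a k ha hk
    obtain ⟨g, rfl⟩ := st.surj g
    have h1 : ψ ((g * u * g⁻¹)⁻¹ * y) = 1 := by
      rw [map_mul, map_inv, map_mul, map_mul, map_inv, hu, hg, hy, inv_mul_cancel]
    set z := (g * u * g⁻¹)⁻¹ * y with hz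
    have hy' : y = g * u * g⁻¹ * z := by rw [hz, mul_inv_cancel_left]
    calc y * y = g * u * g⁻¹ * (z * (g * u * g⁻¹)) * z := by rw [hy']; group
      _ = g * u * g⁻¹ * ((g * u * g⁻¹) * z) * z := by rw [st.central z h1 (g * u * g⁻¹)]
      _ = g * (u * u) * g⁻¹ * (z * z) := by group
      _ = u * u := by
        rw [st.two z h1, mul_one, st.central _ (hsqcen u a hu) g, mul_inv_cancel_right]
  have hinv : ∀ (y : L) (k : M), k ≠ 1 → ψ y = α k → y⁻¹ = (u * u) * y := by
    intro y k hk hy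
    refine inv_eq_of_mul_eq_one_right ?_
    rw [← mul_assoc, st.central _ (hsqcen u a hu) y, mul_assoc, hconst y k hk hy, st.two _ (hsqcen u a hu)]
  obtain ⟨v, hv⟩ := st.surj (α b)
  obtain ⟨w, hw⟩ := st.surj (α c)
  have hcomm : ∀ (y y' : L) (k k' : M), k ≠ 1 → k' ≠ 1 → k * k' ≠ 1 → ψ y = α k → ψ y' = α k' →
      y' * y = (u * u) * (y * y') := by
    intro y y' k k' hk hk' hkk hy hy'
    have h1 := hinv (y * y') (k * k') hkk (by rw [map_mul, hy, hy', map_mul])
    rw [mul_inv_rev, hinv y k hk hy, hinv y' k' hk' hy'] at h1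
    calc y' * y = (u * u * (u * u)) * (y' * y) := by rw [st.two _ (hsqcen u a hu), one_mul]
      _ = u * u * y' * (u * u * y) := by
        rw [mul_assoc (u * u) y' (u * u * y), ← mul_assoc y' (u * u) y, st.central _ (hsqcen u a hu) y']
        group
      _ = _ := h1
  have h12 := hcomm u v a b ha hb hab hu hv
  have h13 := hcomm u w a c ha hc hac hu hw
  have h23 := hcomm u (v * w) a (b * c) ha hbc habc hu (by rw [map_mul, hv, hw, map_mul])
  have huu : u * u = 1 := by
    have e : v * w * u = u * v * w := by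
      calc v * w * u = v * (w * u) := mul_assoc _ _ _
        _ = v * (u * u) * u * w := by rw [h13]; group
        _ = u * u * v * u * w := by rw [st.central _ (hsqcen u a hu) v]
        _ = u * u * (v * u) * w := by group
        _ = (u * u * (u * u)) * (u * v) * w := by rw [h12]; group
        _ = u * v * w := by rw [st.two _ (hsqcen u a hu), one_mul]
    rw [e] at h23
    have : (u * u) * (u * v * w) = 1 * (u * v * w) := by rw [one_mul]; rw [mul_assoc u v w] at *; exact h23.symm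
    exact mul_right_cancel this
  by_cases hm : m = 1
  · exact st.two x (by rw [hx, hm, map_one])
  · rw [hconst x m hm hx, huu]

variable (ψ α) in
/-- Preimage of the subgroup has exponent two. -/
def Elementary : Prop := ∀ (x : L) (m : M), ψ x = α m → x * x = 1

theorem Elementary.comm (he : Elementary ψ α) {x y : L} {m k : M} (hx : ψ x = α m) (hy : ψ y = α k) :
    x * y = y * x := by
  have h1 := inv_eq_of_mul_eq_one_right (he (x * y) (m * k) (by rw [map_mul, hx, hy, map_mul]))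
  rwa [mul_inv_rev, inv_eq_of_mul_eq_one_right (he x m hx), inv_eq_of_mul_eq_one_right (he y k hy), eq_comm] at h1

/-- A fixed-point-free element gives a canonical section. -/
theorem Setting.exists_section (st : Setting ψ α) (he : Elementary ψ α) (T : L) (τ κ : M →* M)
    (hτ : ∀ a, ψ T * α a * (ψ T)⁻¹ = α (τ a)) (hκ : ∀ a, τ (κ a) * κ a = a)
    (hfix : ∀ a, τ a = a → a = 1) (hτs : Function.Surjective τ) :
    ∃ s : M →* L, (∀ a, ψ (s a) = α a) ∧
      ∀ (g : L) (h : M → M), (∀ a, ψ g * α a * (ψ g)⁻¹ = α (h a)) →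
        (ψ g * ψ T * (ψ g)⁻¹ = ψ T ∨ ψ g * ψ T * (ψ g)⁻¹ = (ψ T)⁻¹) → ∀ a, g * s a * g⁻¹ = s (h a) := by
  let lift : M → L := fun a => Function.surjInv st.surj (α a)
  have hlift : ∀ a, ψ (lift a) = α a := fun a => Function.surjInv_eq st.surj _
  have hTx : ∀ {x : L} {m : M}, ψ x = α m → ψ (T * x * T⁻¹) = α (τ m) := fun {x m} hx => by
    rw [map_mul, map_mul, map_inv, hx, hτ]
  have hD : ∀ {x : L} {m : M}, ψ x = α m → ψ (T * x * T⁻¹ * x⁻¹) = α (τ m * m) := fun {x m} hx => by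
    rw [map_mul, hTx hx, map_inv, hx, ← map_inv, ← map_mul, inv_eq_of_mul_eq_one_right (st.mtwo m)]
  have hdwd : ∀ {x y : L} {m k : M}, ψ x = α m → ψ y = α k → τ m * m = τ k * k →
      T * x * T⁻¹ * x⁻¹ = T * y * T⁻¹ * y⁻¹ := fun {x y m k} hx hy heq => by
    have hmk : τ (m * k) = m * k := by
      calc τ (m * k) = τ m * τ k * (k * k) := by rw [map_mul, st.mtwo, mul_one]
        _ = τ m * (τ k * k) * k := by rw [mul_assoc, mul_assoc, mul_assoc]
        _ = τ m * (τ m * m) * k := by rw [heq]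
        _ = (τ m * τ m) * (m * k) := by rw [mul_assoc, mul_assoc, mul_assoc]
        _ = m * k := by rw [st.mtwo, one_mul]
    have hk : m = k := by
      have := hfix _ hmk
      calc m = m * (k * k) := by rw [st.mtwo, mul_one]
        _ = k := by rw [← mul_assoc, this, one_mul]
    have hz : ψ (x⁻¹ * y) = 1 := by rw [map_mul, map_inv, hx, hy, hk, inv_mul_cancel]
    have e : y = x * (x⁻¹ * y) := by rw [mul_inv_cancel_left]
    rw [e]
    generalize x⁻¹ * y = z at hz
    calc T * x * T⁻¹ * x⁻¹ = T * x * (T⁻¹ * z) * (z⁻¹ * x⁻¹) := by group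
      _ = T * x * (z * T⁻¹) * (z⁻¹ * x⁻¹) := by rw [st.central z hz T⁻¹]
      _ = _ := by group
  have hcomm : ∀ {x y : L} {m k : M}, ψ x = α m → ψ y = α k →
      T * (x * y) * T⁻¹ * (x * y)⁻¹ = (T * x * T⁻¹ * x⁻¹) * (T * y * T⁻¹ * y⁻¹) := fun {x y m k} hx hy => by
    have h1 : x⁻¹ * (T * y * T⁻¹ * y⁻¹) = (T * y * T⁻¹ * y⁻¹) * x⁻¹ :=
      he.comm (m := m⁻¹) (by rw [map_inv, hx, map_inv]) (hD hy)
    calc T * (x * y) * T⁻¹ * (x * y)⁻¹ = T * x * T⁻¹ * ((T * y * T⁻¹ * y⁻¹) * x⁻¹) := by group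
      _ = _ := by rw [← h1]; group
  let s : M →* L := MonoidHom.mk' (fun a => T * lift (κ a) * T⁻¹ * (lift (κ a))⁻¹) fun a b => by
    rw [← hcomm (hlift _) (hlift _)]
    exact hdwd (hlift _) (show ψ (lift (κ a) * lift (κ b)) = α (κ a * κ b) by rw [map_mul, hlift, hlift, map_mul])
      (by rw [map_mul])
  have hs : ∀ a, ψ (s a) = α a := fun a => by
    show ψ (T * lift (κ a) * T⁻¹ * (lift (κ a))⁻¹) = α a
    rw [hD (hlift _), hκ]
  have hsimg : ∀ {x : L} {m : M}, ψ x = α m → ∀ a, τ m * m = a → T * x * T⁻¹ * x⁻¹ = s a := by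
    intro x m hx a ha
    exact hdwd hx (hlift _) (by rw [ha, hκ])
  refine ⟨s, hs, fun g h hg hgT a => ?_⟩
  set x := lift (κ a) with hx
  have hx' : ψ (g * x * g⁻¹) = α (h (κ a)) := by rw [map_mul, map_mul, map_inv, hlift, hg]
  have himg : ψ (g * s a * g⁻¹) = α (h a) := by rw [map_mul, map_mul, map_inv, hs, hg]
  show g * (T * x * T⁻¹ * x⁻¹) * g⁻¹ = s (h a)
  set x' := g * x * g⁻¹ with hx'def
  have key : ∀ (y : L) (k : M), ψ y = α k → g * s a * g⁻¹ = T * y * T⁻¹ * y⁻¹ → g * s a * g⁻¹ = s (h a) := by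
    intro y k hy e
    rw [e]
    refine hsimg hy _ (st.inj ?_)
    rw [← hD hy, ← e, himg]
  rcases hgT with e | e
  · obtain ⟨z, hz, hgz⟩ : ∃ z, ψ z = 1 ∧ g * T * g⁻¹ = T * z :=
      ⟨T⁻¹ * (g * T * g⁻¹), by rw [map_mul, map_inv, map_mul, map_mul, map_inv, e, inv_mul_cancel], by group⟩
    refine key x' _ hx' ?_
    calc g * (T * x * T⁻¹ * x⁻¹) * g⁻¹ = (g * T * g⁻¹) * x' * (g * T * g⁻¹)⁻¹ * x'⁻¹ := by rw [hx'def]; group
      _ = T * (z * x') * z⁻¹ * T⁻¹ * x'⁻¹ := by rw [hgz]; group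
      _ = _ := by rw [← st.central z hz x']; group
  · obtain ⟨z, hz, hgz⟩ : ∃ z, ψ z = 1 ∧ g * T * g⁻¹ = T⁻¹ * z :=
      ⟨T * (g * T * g⁻¹), by rw [map_mul, map_mul, map_mul, map_inv, e, mul_inv_cancel], by group⟩
    obtain ⟨m', hm'⟩ : ∃ m', ψ (T⁻¹ * x' * T) = α m' := by
      obtain ⟨k, hk⟩ := hτs (h (κ a))
      exact ⟨k, by rw [map_mul, map_mul, map_inv, hx', ← hk, ← hτ]; group⟩
    refine key (T⁻¹ * x' * T) _ hm' ?_
    calc g * (T * x * T⁻¹ * x⁻¹) * g⁻¹ = (g * T * g⁻¹) * x' * (g * T * g⁻¹)⁻¹ * x'⁻¹ := by rw [hx'def]; group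
      _ = T⁻¹ * (z * x') * z⁻¹ * T * x'⁻¹ := by rw [hgz]; group
      _ = T⁻¹ * x' * T * x'⁻¹ := by rw [← st.central z hz x']; group
      _ = (x'⁻¹ * (T⁻¹ * x' * T)) := he.comm hm' (k := (h (κ a))⁻¹) (by rw [map_inv, hx', map_inv])
      _ = _ := by
        rw [inv_eq_of_mul_eq_one_right (he _ _ hx'), inv_eq_of_mul_eq_one_right (he _ _ hm')]
        group

end CfsgLib.LinearThreeFour
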