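import Mathlib
import Cfsg.Agent.Lib.Linear.Card
import Cfsg.Agent.Lib.LinearThreeFour.Lifting

/-! The unipotent subgroups of `PSL₃(4)` and the groups acting on them. -/

set_option autoImplicit false

namespace CfsgLib.LinearThreeFour

open Matrix

variable {F : Type} [Field F] [Fintype F] (hF : Fintype.card F = 4)

include hF in
theorem add_self (x : F) : x + x = 0 := by
  have h : ((2 * 2 : ℕ) : F) = 0 := by
    have := FiniteField.cast_card_eq_zero F
    rwa [hF] at this
  rw [Nat.cast_mul, mul_self_eq_zero] at h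
  rw [← two_mul, show (2 : F) = ((2 : ℕ) : F) from (Nat.cast_ofNat).symm, h, zero_mul]

include hF in
theorem exists_mu : ∃ μ : F, μ * μ + μ + 1 = 0 ∧ μ ≠ 0 ∧ μ ≠ 1 ∧ ∀ x : F, x = 0 ∨ x = 1 ∨ x = μ ∨ x = μ * μ := by
  classical
  obtain ⟨μ, h0, h1⟩ : ∃ μ : F, μ ≠ 0 ∧ μ ≠ 1 := by
    by_contra! h
    have : (Finset.univ : Finset F) ⊆ {0, 1} := fun x _ => by
      simp only [Finset.mem_insert, Finset.mem_singleton]
      exact or_iff_not_imp_left.2 (h x)
    have := (Finset.card_le_card this).trans Finset.card_le_two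
    rw [Finset.card_univ, hF] at this
    omega
  have hp : ∀ x : F, x ≠ 0 → x ^ 3 = 1 := fun x hx => by
    have := FiniteField.pow_card_sub_one_eq_one x hx
    rwa [hF] at this
  have hq : μ * μ + μ + 1 = 0 := by
    have : (μ - 1) * (μ * μ + μ + 1) = 0 := by linear_combination hp μ h0
    exact (mul_eq_zero.1 this).resolve_left (sub_ne_zero.2 h1)
  refine ⟨μ, hq, h0, h1, fun x => ?_⟩
  by_cases hx : x = 0
  · exact Or.inl hx
  have : (x - 1) * ((x - μ) * (x - μ * μ)) = 0 := by
    linear_combination hp x hx + (- x ^ 2 + x * (μ - 1) + x + 1 - μ) * hq + (0 : F) * hq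
  rcases mul_eq_zero.1 this with h | h
  · exact Or.inr (Or.inl (sub_eq_zero.1 h))
  rcases mul_eq_zero.1 h with h | h
  · exact Or.inr (Or.inr (Or.inl (sub_eq_zero.1 h)))
  · exact Or.inr (Or.inr (Or.inr (sub_eq_zero.1 h)))

/-- The elementary abelian group of pairs. -/
abbrev Pair (F : Type) [Field F] : Type := Multiplicative (Fin 2 → F)

local notation "SL3" => SpecialLinearGroup (Fin 3) F
local notation "SL2" => SpecialLinearGroup (Fin 2) F

/-- Column unipotent elements. -/
def colElem (v : Fin 2 → F) : SL3 := ⟨!![1, 0, v 0; 0, 1, v 1; 0, 0, 1], by simp [det_fin_three]⟩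

/-- Row unipotent elements. -/
def rowElem (v : Fin 2 → F) : SL3 := ⟨!![1, v 0, v 1; 0, 1, 0; 0, 0, 1], by simp [det_fin_three]⟩

/-- Upper Levi elements. -/
def blkElem (g : SL2) : SL3 := ⟨!![g.1 0 0, g.1 0 1, 0; g.1 1 0, g.1 1 1, 0; 0, 0, 1], by
  have := g.2; rw [det_fin_two] at this; simp [det_fin_three]; linear_combination this⟩

/-- Lower Levi elements. -/
def blkElem' (g : SL2) : SL3 := ⟨!![1, 0, 0; 0, g.1 0 0, g.1 0 1; 0, g.1 1 0, g.1 1 1], by
  have := g.2; rw [det_fin_two] at this; simp [det_fin_three]; linear_combination this⟩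

theorem coe_colElem (v : Fin 2 → F) : (colElem v).1 = !![1, 0, v 0; 0, 1, v 1; 0, 0, 1] := rfl

theorem coe_rowElem (v : Fin 2 → F) : (rowElem v).1 = !![1, v 0, v 1; 0, 1, 0; 0, 0, 1] := rfl

theorem coe_blkElem (g : SL2) : (blkElem g).1 = !![g.1 0 0, g.1 0 1, 0; g.1 1 0, g.1 1 1, 0; 0, 0, 1] := rfl

theorem coe_blkElem' (g : SL2) : (blkElem' g).1 = !![1, 0, 0; 0, g.1 0 0, g.1 0 1; 0, g.1 1 0, g.1 1 1] := rfl

/-- Column unipotents. -/
def col : Pair F →* SL3 := MonoidHom.mk' (fun a => colElem a.toAdd) fun a b => by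
  refine Matrix.SpecialLinearGroup.ext _ _ fun i j => ?_
  fin_cases i <;> fin_cases j <;> simp [coe_colElem, Matrix.SpecialLinearGroup.coe_mul, Matrix.mul_apply, Fin.sum_univ_three, add_comm]

/-- Row unipotents. -/
def row : Pair F →* SL3 := MonoidHom.mk' (fun a => rowElem a.toAdd) fun a b => by
  refine Matrix.SpecialLinearGroup.ext _ _ fun i j => ?_
  fin_cases i <;> fin_cases j <;> simp [coe_rowElem, Matrix.SpecialLinearGroup.coe_mul, Matrix.mul_apply, Fin.sum_univ_three, add_comm]

/-- The upper Levi block. -/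
def blk : SL2 →* SL3 := MonoidHom.mk' blkElem fun g h => by
  refine Matrix.SpecialLinearGroup.ext _ _ fun i j => ?_
  fin_cases i <;> fin_cases j <;> simp [coe_blkElem, Matrix.SpecialLinearGroup.coe_mul, Matrix.mul_apply, Fin.sum_univ_three, Fin.sum_univ_two]

/-- The lower Levi block. -/
def blk' : SL2 →* SL3 := MonoidHom.mk' blkElem' fun g h => by
  refine Matrix.SpecialLinearGroup.ext _ _ fun i j => ?_
  fin_cases i <;> fin_cases j <;> simp [coe_blkElem', Matrix.SpecialLinearGroup.coe_mul, Matrix.mul_apply, Fin.sum_univ_three, Fin.sum_univ_two]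

theorem coe_col (a : Pair F) : (col a).1 = !![1, 0, a.toAdd 0; 0, 1, a.toAdd 1; 0, 0, 1] := rfl

theorem coe_row (b : Pair F) : (row b).1 = !![1, b.toAdd 0, b.toAdd 1; 0, 1, 0; 0, 0, 1] := rfl

theorem coe_blk (g : SL2) : (blk g).1 = !![g.1 0 0, g.1 0 1, 0; g.1 1 0, g.1 1 1, 0; 0, 0, 1] := rfl

theorem coe_blk' (g : SL2) : (blk' g).1 = !![1, 0, 0; 0, g.1 0 0, g.1 0 1; 0, g.1 1 0, g.1 1 1] := rfl

/-- Action on columns. -/
def act (g : SL2) (a : Pair F) : Pair F := Multiplicative.ofAdd (g.1.mulVec a.toAdd)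

theorem blk_col (g : SL2) (a : Pair F) : blk g * col a = col (act g a) * blk g := by
  refine Matrix.SpecialLinearGroup.ext _ _ fun i j => ?_
  fin_cases i <;> fin_cases j <;>
    simp [Matrix.SpecialLinearGroup.coe_mul, coe_blk, coe_col, act, Matrix.mul_apply, Fin.sum_univ_three, Matrix.mulVec, dotProduct, Fin.sum_univ_two]

/-- Action on rows. -/
def act' (g : SL2) (b : Pair F) : Pair F := Multiplicative.ofAdd (Matrix.vecMul b.toAdd (g⁻¹ : SL2).1)

theorem blk'_row (g : SL2) (b : Pair F) : blk' g * row b = row (act' g b) * blk' g := by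
  have e : Matrix.vecMul (act' g b).toAdd g.1 = b.toAdd := by
    show Matrix.vecMul (Matrix.vecMul b.toAdd (g⁻¹ : SL2).1) g.1 = _
    rw [Matrix.vecMul_vecMul, ← Matrix.SpecialLinearGroup.coe_mul, inv_mul_cancel,
      Matrix.SpecialLinearGroup.coe_one, Matrix.vecMul_one]
  have e0 := congrFun e 0
  have e1 := congrFun e 1
  simp [Matrix.vecMul, dotProduct, Fin.sum_univ_two] at e0 e1
  generalize act' g b = c at e0 e1
  refine Matrix.SpecialLinearGroup.ext _ _ fun i j => ?_
  fin_cases i <;> fin_cases j <;> simp [Matrix.SpecialLinearGroup.coe_mul, coe_blk', coe_row, Matrix.mul_apply, Fin.sum_univ_three, e0, e1]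

/-- The projection to the projective group. -/
abbrev proj : SL3 →* ProjectiveSpecialLinearGroup (Fin 3) F := QuotientGroup.mk' _

theorem proj_col_row_inj {a : Pair F} {x : F}
    (h : proj (col a * row (Multiplicative.ofAdd ![x, 0])) = 1) : a = 1 ∧ x = 0 := by
  obtain ⟨r, -, hr⟩ := Matrix.SpecialLinearGroup.mem_center_iff.1
    ((QuotientGroup.eq_one_iff (N := Subgroup.center SL3) _).1 h)
  have e : ∀ i j, (scalar (Fin 3) r) i j = (col a * row (Multiplicative.ofAdd ![x, 0])).1 i j :=
    fun i j => by rw [hr]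
  have h1 := e 0 1
  have h2 := e 0 2
  have h3 := e 1 2
  simp [Matrix.SpecialLinearGroup.coe_mul, coe_col, coe_row, Matrix.mul_apply, Fin.sum_univ_three, Matrix.scalar_apply, Matrix.diagonal_apply] at h1 h2 h3
  refine ⟨Multiplicative.toAdd.injective (funext fun i => ?_), h1.symm⟩
  fin_cases i
  · simpa [h1] using h2.symm
  · simpa using h3.symm

theorem proj_col_injective : Function.Injective (proj.comp col : Pair F →* ProjectiveSpecialLinearGroup (Fin 3) F) := by
  rw [injective_iff_map_eq_one]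
  intro a ha
  refine (proj_col_row_inj (x := 0) ?_).1
  rw [show (Multiplicative.ofAdd ![(0 : F), 0]) = 1 from Multiplicative.toAdd.injective (by
    funext i; fin_cases i <;> rfl), map_one, mul_one]
  exact ha

theorem proj_row_injective : Function.Injective (proj.comp row : Pair F →* ProjectiveSpecialLinearGroup (Fin 3) F) := by
  rw [injective_iff_map_eq_one]
  intro b hb
  obtain ⟨r, -, hr⟩ := Matrix.SpecialLinearGroup.mem_center_iff.1
    ((QuotientGroup.eq_one_iff (N := Subgroup.center SL3) _).1 hb)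
  have e : ∀ i j, (scalar (Fin 3) r) i j = (row b).1 i j := fun i j => by rw [hr]
  have h1 := e 0 1
  have h2 := e 0 2
  simp [coe_row, Matrix.scalar_apply, Matrix.diagonal_apply] at h1 h2
  refine Multiplicative.toAdd.injective (funext fun i => ?_)
  fin_cases i <;> simp [← h1, ← h2]

/-- The lower-triangular flip. -/
def weyl : SL2 := ⟨!![0, 1; -1, 0], by simp [det_fin_two]⟩

/-- An upper unipotent. -/
def upper (x : F) : SL2 := ⟨!![1, x; 0, 1], by simp [det_fin_two]⟩

theorem coe_upper (x : F) : (upper x).1 = !![1, x; 0, 1] := rfl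

theorem coe_weyl : (weyl : SL2).1 = !![0, 1; -1, 0] := rfl

theorem upper_add (x y : F) : upper x * upper y = upper (x + y) := by
  refine Matrix.SpecialLinearGroup.ext _ _ fun i j => ?_
  fin_cases i <;> fin_cases j <;> simp [Matrix.SpecialLinearGroup.coe_mul, coe_upper, Matrix.mul_apply, Fin.sum_univ_two, add_comm]

theorem row_eq_blk (x : F) : row (Multiplicative.ofAdd ![x, 0]) = blk (upper x) := by
  refine Matrix.SpecialLinearGroup.ext _ _ fun i j => ?_
  fin_cases i <;> fin_cases j <;> simp [Matrix.SpecialLinearGroup.coe_mul, coe_row, coe_blk, coe_upper]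

theorem act_one (a : Pair F) : act 1 a = a := by
  simp [act]

theorem act_mul (g h : SL2) (a : Pair F) : act (g * h) a = act g (act h a) := by
  rw [act, act, act, toAdd_ofAdd, Matrix.mulVec_mulVec]
  rfl

theorem trans_act {a b : Pair F} (ha : a ≠ 1) (hb : b ≠ 1) : ∃ g : SL2, act g a = b := by
  have key : ∀ a : Pair F, a ≠ 1 → ∃ g : SL2, act g (Multiplicative.ofAdd ![1, 0]) = a := by
    intro a ha
    by_cases h0 : a.toAdd 0 = 0
    · have h1 : a.toAdd 1 ≠ 0 := fun h1 => ha (Multiplicative.toAdd.injective (funext fun i => by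
        fin_cases i <;> simpa))
      refine ⟨⟨!![a.toAdd 0, -(a.toAdd 1)⁻¹; a.toAdd 1, 0], by rw [det_fin_two]; simp; field_simp⟩, ?_⟩
      refine Multiplicative.toAdd.injective (funext fun i => ?_)
      fin_cases i <;> simp [act, Matrix.mulVec, dotProduct, Fin.sum_univ_two]
    · refine ⟨⟨!![a.toAdd 0, 0; a.toAdd 1, (a.toAdd 0)⁻¹], by rw [det_fin_two]; simp; field_simp⟩, ?_⟩
      refine Multiplicative.toAdd.injective (funext fun i => ?_)
      fin_cases i <;> simp [act, Matrix.mulVec, dotProduct, Fin.sum_univ_two]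
  obtain ⟨g, rfl⟩ := key a ha
  obtain ⟨h, rfl⟩ := key b hb
  exact ⟨h * g⁻¹, by rw [← act_mul, inv_mul_cancel_right]⟩

theorem trans_act' {a b : Pair F} (ha : a ≠ 1) (hb : b ≠ 1) : ∃ g : SL2, act' g a = b := by
  obtain ⟨g, hg⟩ := trans_act ha hb
  have hdet : (g.1ᵀ).det = 1 := by rw [det_transpose]; exact g.2
  obtain ⟨g', hg'⟩ : ∃ g' : SL2, g'.1 = g.1ᵀ := ⟨⟨g.1ᵀ, hdet⟩, rfl⟩
  refine ⟨g'⁻¹, ?_⟩
  rw [act', inv_inv, hg']
  rw [Matrix.vecMul_transpose]
  exact hg

/-- The torus element. -/
def torus (μ : F) (h : μ * μ + μ + 1 = 0) : SL2 :=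
  ⟨!![μ, 0; 0, μ * μ], by rw [det_fin_two]; simp; linear_combination (μ - 1) * h⟩

theorem coe_torus (μ : F) (h : μ * μ + μ + 1 = 0) : (torus μ h).1 = !![μ, 0; 0, μ * μ] := rfl

/-- The torus element as an endomorphism of pairs. -/
def torusHom (μ ν : F) : Pair F →* Pair F where
  toFun a := Multiplicative.ofAdd ![μ * a.toAdd 0, ν * a.toAdd 1]
  map_one' := Multiplicative.toAdd.injective (funext fun i => by fin_cases i <;> simp)
  map_mul' a b := Multiplicative.toAdd.injective (funext fun i => by fin_cases i <;> simp [mul_add])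

theorem closure_generators {μ : F} (h : μ * μ + μ + 1 = 0) (hall : ∀ x : F, x = 0 ∨ x = 1 ∨ x = μ ∨ x = μ * μ)
    (h2 : ∀ x : F, x + x = 0) (K : Subgroup SL2) (hT : torus μ h ∈ K) (hw : weyl ∈ K) (hu : upper 1 ∈ K) :
    K = ⊤ := by
  have h3 : μ * μ * μ = 1 := by linear_combination (μ - 1) * h
  have hconj : ∀ x, torus μ h * upper x * (torus μ h)⁻¹ = upper (μ * μ * x) := fun x => by
    rw [mul_inv_eq_iff_eq_mul]
    refine Matrix.SpecialLinearGroup.ext _ _ fun i j => ?_
    fin_cases i <;> fin_cases j <;> simp [Matrix.SpecialLinearGroup.coe_mul, coe_torus, coe_upper, Matrix.mul_apply, Fin.sum_univ_two]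
    linear_combination (-(μ * x)) * h3
  have hup : ∀ x, upper x ∈ K := by
    have h1 : upper (μ * μ) ∈ K := by
      have := mul_mem (mul_mem hT hu) (inv_mem hT)
      rwa [hconj, mul_one] at this
    have h2' : upper μ ∈ K := by
      have := mul_mem (mul_mem hT h1) (inv_mem hT)
      rw [hconj, show μ * μ * (μ * μ) = μ by linear_combination μ * h3] at this
      exact this
    intro x
    rcases hall x with e | e | e | e <;> rw [e]
    · have e0 : upper (0 : F) = 1 := by
        refine Matrix.SpecialLinearGroup.ext _ _ fun i j => ?_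
        fin_cases i <;> fin_cases j <;> simp [coe_upper, Matrix.SpecialLinearGroup.coe_one]
      rw [e0]
      exact one_mem K
    · exact hu
    · exact h2'
    · exact h1
  have hdiag : ∀ g : SL2, g.1 0 1 = 0 → g.1 1 0 = 0 → g ∈ K := by
    intro g g01 g10
    have hd : g.1 0 0 * g.1 1 1 = 1 := by have := g.2; rw [det_fin_two, g01, g10] at this; linear_combination this
    rcases hall (g.1 0 0) with e | e | e | e
    · rw [e] at hd; simp at hd
    · have hg : g = 1 := by
        rw [e, one_mul] at hd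
        refine Matrix.SpecialLinearGroup.ext _ _ fun i j => ?_
        fin_cases i <;> fin_cases j <;> simp [Matrix.SpecialLinearGroup.coe_one, g01, g10, e, hd]
      rw [hg]
      exact one_mem K
    · have hd' : g.1 1 1 = μ * μ := by rw [e] at hd; linear_combination μ * μ * hd - g.1 1 1 * h3
      have hg : g = torus μ h := by
        refine Matrix.SpecialLinearGroup.ext _ _ fun i j => ?_
        fin_cases i <;> fin_cases j <;> simp [coe_torus, g01, g10, e, hd']
      rw [hg]
      exact hT
    · have hd' : g.1 1 1 = μ := by rw [e] at hd; linear_combination μ * hd - g.1 1 1 * h3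
      have hg : g = torus μ h * torus μ h := by
        refine Matrix.SpecialLinearGroup.ext _ _ fun i j => ?_
        fin_cases i <;> fin_cases j <;> simp [Matrix.SpecialLinearGroup.coe_mul, coe_torus, Matrix.mul_apply, Fin.sum_univ_two, g01, g10, e, hd']
        linear_combination (-μ) * h3
      rw [hg]
      exact mul_mem hT hT
  have hborel : ∀ g : SL2, g.1 1 0 = 0 → g ∈ K := by
    intro g hg
    have hd : g.1 0 0 * g.1 1 1 = 1 := by have := g.2; rw [det_fin_two, hg] at this; linear_combination this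
    obtain ⟨d, hdd⟩ : ∃ d : SL2, d.1 = !![g.1 0 0, 0; 0, g.1 1 1] := ⟨⟨_, by simp [det_fin_two, hd]⟩, rfl⟩
    have : g = d * upper (g.1 1 1 * g.1 0 1) := by
      refine Matrix.SpecialLinearGroup.ext _ _ fun i j => ?_
      fin_cases i <;> fin_cases j <;> simp [Matrix.SpecialLinearGroup.coe_mul, coe_upper, Matrix.mul_apply, Fin.sum_univ_two, hg, hdd]
      linear_combination (-g.1 0 1) * hd
    rw [this]
    exact mul_mem (hdiag _ (by simp [hdd]) (by simp [hdd])) (hup _)
  rw [eq_top_iff]
  intro g _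
  by_cases hg : g.1 1 0 = 0
  · exact hborel g hg
  set x := g.1 0 0 * (g.1 1 0)⁻¹ with hx
  have h1 : weyl * (upper (-x) * g) ∈ K := by
    refine hborel _ ?_
    simp [Matrix.SpecialLinearGroup.coe_mul, coe_weyl, coe_upper, Matrix.mul_apply, Fin.sum_univ_two, hx, Matrix.vecMul, dotProduct]
    field_simp
    ring
  have := mul_mem (inv_mem (hup (-x))) (mul_mem (inv_mem hw) h1)
  rwa [inv_mul_cancel_left, inv_mul_cancel_left] at this

end CfsgLib.LinearThreeFour
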