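import Mathlib
import Cfsg.Agent.Lib.LinearThreeFour.Matrices

/-! A perfect central extension of `PSL₃(4)` by an elementary abelian 2-group has kernel of order at most
four; a cover with kernel of order four is therefore unique. -/

set_option autoImplicit false

namespace CfsgLib.LinearThreeFour

open Matrix Subgroup
open scoped commutatorElement

variable {F : Type} [Field F] [Fintype F]
variable {L : Type*} [Group L] [Finite L]

local notation "SL2" => Matrix.SpecialLinearGroup (Fin 2) F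
local notation "PSL3" => ProjectiveSpecialLinearGroup (Fin 3) F

theorem conj_col (g : SL2) (a : Pair F) :
    proj (blk g) * proj (col a) * (proj (blk g))⁻¹ = proj (col (act g a)) := by
  rw [mul_inv_eq_iff_eq_mul, ← map_mul, ← map_mul, blk_col]

theorem conj_row (g : SL2) (b : Pair F) :
    proj (blk' g) * proj (row b) * (proj (blk' g))⁻¹ = proj (row (act' g b)) := by
  rw [mul_inv_eq_iff_eq_mul, ← map_mul, ← map_mul, blk'_row]

theorem act_torus {μ : F} (h : μ * μ + μ + 1 = 0) (a : Pair F) :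
    act (torus μ h) a = torusHom μ (μ * μ) a := by
  refine Multiplicative.toAdd.injective (funext fun i => ?_)
  fin_cases i <;> simp [act, coe_torus, torusHom, Matrix.mulVec, dotProduct, Fin.sum_univ_two]

theorem act'_torus {μ : F} (h : μ * μ + μ + 1 = 0) (a : Pair F) :
    act' (torus μ h) a = torusHom (μ * μ) μ a := by
  refine Multiplicative.toAdd.injective (funext fun i => ?_)
  fin_cases i <;>
    simp [act', Matrix.SpecialLinearGroup.coe_inv, coe_torus, Matrix.adjugate_fin_two, torusHom, Matrix.vecMul,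
      dotProduct, Fin.sum_univ_two, mul_comm, Matrix.vecHead, Matrix.vecTail]

theorem pair_sq (hF : Fintype.card F = 4) (a : Pair F) : a * a = 1 :=
  Multiplicative.toAdd.injective (funext fun i => add_self hF _)

theorem torusHom_props (hF : Fintype.card F = 4) {μ ν : F} (hμν : μ * ν = 1) (hμ : μ + ν + 1 = 0) :
    (∀ a : Pair F, torusHom μ ν (torusHom μ ν a) * torusHom μ ν a = a) ∧
      (∀ a : Pair F, torusHom μ ν a = a → a = 1) ∧ Function.Surjective (torusHom μ ν : Pair F →* Pair F) := by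
  have h2 := add_self hF
  have hμμ : μ * μ + μ = 1 := by linear_combination μ * hμ - hμν - h2 1
  have hνν : ν * ν + ν = 1 := by linear_combination ν * hμ - hμν - h2 1
  refine ⟨fun a => ?_, fun a ha => ?_, fun a => ⟨torusHom ν μ a, ?_⟩⟩
  · refine Multiplicative.toAdd.injective (funext fun i => ?_)
    fin_cases i <;> simp [torusHom]
    · linear_combination (a.toAdd 0) * hμμ
    · linear_combination (a.toAdd 1) * hνν
  · have e0 := congrArg (fun v : Pair F => v.toAdd 0) ha
    have e1 := congrArg (fun v : Pair F => v.toAdd 1) ha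
    have f0 : μ * a.toAdd 0 = a.toAdd 0 := e0
    have f1 : ν * a.toAdd 1 = a.toAdd 1 := e1
    refine Multiplicative.toAdd.injective (funext fun i => ?_)
    fin_cases i <;> simp
    · linear_combination (μ + 1 + 1) * f0 - a.toAdd 0 * hμμ + a.toAdd 0 * h2 1
    · linear_combination (ν + 1 + 1) * f1 - a.toAdd 1 * hνν + a.toAdd 1 * h2 1
  · refine Multiplicative.toAdd.injective (funext fun i => ?_)
    fin_cases i <;> simp [torusHom]
    · linear_combination (a.toAdd 0) * hμν
    · linear_combination (a.toAdd 1) * hμν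

variable (ψ : L →* ProjectiveSpecialLinearGroup (Fin 3) F) (hs : Function.Surjective ψ) (hc : ∀ z, ψ z = 1 → ∀ x, x * z = z * x)
  (h2 : ∀ z, ψ z = 1 → z * z = 1) (hF : Fintype.card F = 4)

include hs hc h2 hF

theorem setting_col : Setting ψ (proj.comp col : Pair F →* PSL3) :=
  ⟨hs, proj_col_injective, hc, h2, pair_sq hF⟩

theorem setting_row : Setting ψ (proj.comp row : Pair F →* PSL3) :=
  ⟨hs, proj_row_injective, hc, h2, pair_sq hF⟩

theorem exists_rows :
    ∃ C : Subgroup L, (∀ c ∈ C, ∃ x, ψ c = proj (row (Multiplicative.ofAdd ![x, 0])) ∧ (x = 0 → c = 1)) ∧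
      ∀ x, ∃ c ∈ C, ψ c = proj (row (Multiplicative.ofAdd ![x, 0])) := by
  obtain ⟨μ, hμ, h0, h1, hall⟩ := exists_mu hF
  have st := setting_row ψ hs hc h2 hF
  have he : Elementary ψ (proj.comp row : Pair F →* PSL3) := by
    intro x m hx
    refine st.sq_eq_one (fun a b ha hb => ?_) (Multiplicative.ofAdd ![1, 0]) (Multiplicative.ofAdd ![μ, 0])
      (Multiplicative.ofAdd ![0, 1]) ?_ ?_ ?_ ?_ ?_ ?_ ?_ hx
    · obtain ⟨g, hg⟩ := trans_act' ha hb
      exact ⟨proj (blk' g), by rw [← hg]; exact conj_row g a⟩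
    all_goals
      intro e
      have e0 := congrArg (fun v : Pair F => v.toAdd 0) e
      have e1 := congrArg (fun v : Pair F => v.toAdd 1) e
      simp at e0 e1
    all_goals first
      | exact h0 e0
      | exact h1 (by linear_combination e0 - add_self hF 1)
  obtain ⟨T, hT⟩ := hs (proj (blk' (torus μ hμ)))
  have hνμ : μ * μ * μ = 1 := by linear_combination (μ - 1) * hμ
  obtain ⟨hκ, hfix, hsur⟩ := torusHom_props hF (μ := μ * μ) (ν := μ) hνμ (by linear_combination hμ)
  obtain ⟨s, hs1, -⟩ := st.exists_section he T (torusHom (μ * μ) μ) (torusHom (μ * μ) μ)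
    (fun a => by rw [hT]; exact (conj_row _ a).trans (by rw [act'_torus]; rfl)) hκ hfix hsur
  let inl : Multiplicative F →* Pair F := MonoidHom.mk' (fun x => Multiplicative.ofAdd ![x.toAdd, 0])
    fun x y => Multiplicative.toAdd.injective (funext fun i => by fin_cases i <;> simp)
  refine ⟨(s.comp inl).range, ?_, fun x => ⟨s (inl (Multiplicative.ofAdd x)), ⟨Multiplicative.ofAdd x, rfl⟩, hs1 _⟩⟩
  rintro c ⟨x, rfl⟩
  refine ⟨x.toAdd, hs1 _, fun e => ?_⟩
  have : x = 1 := Multiplicative.toAdd.injective e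
  rw [this, map_one]

theorem exists_columns :
    ∃ E Z₁ : Subgroup L, Z₁ ≤ ψ.ker ∧ Nat.card Z₁ ≤ 4 ∧
      (∀ y ∈ E, ∃ a, ψ y = proj (col a) ∧ (a = 1 → y ∈ Z₁)) ∧ (∀ a, ∃ y ∈ E, ψ y = proj (col a)) ∧
      ∀ (g : SL2) (y : L), ψ y = proj (blk g) → y ∈ normalizer (E : Set L) := by
  obtain ⟨μ, hμ, h0, h1, hall⟩ := exists_mu hF
  have hadd := add_self hF
  have st := setting_col ψ hs hc h2 hF
  have he : Elementary ψ (proj.comp col : Pair F →* PSL3) := by
    intro x m hx
    refine st.sq_eq_one (fun a b ha hb => ?_) (Multiplicative.ofAdd ![1, 0]) (Multiplicative.ofAdd ![μ, 0])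
      (Multiplicative.ofAdd ![0, 1]) ?_ ?_ ?_ ?_ ?_ ?_ ?_ hx
    · obtain ⟨g, hg⟩ := trans_act ha hb
      exact ⟨proj (blk g), by rw [← hg]; exact conj_col g a⟩
    all_goals
      intro e
      have e0 := congrArg (fun v : Pair F => v.toAdd 0) e
      have e1 := congrArg (fun v : Pair F => v.toAdd 1) e
      simp at e0 e1
    all_goals first
      | exact h0 e0
      | exact h1 (by linear_combination e0 - add_self hF 1)
  obtain ⟨T, hT⟩ := hs (proj (blk (torus μ hμ)))
  obtain ⟨W, hW⟩ := hs (proj (blk weyl))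
  obtain ⟨U, hU⟩ := hs (proj (blk (upper 1)))
  have hνμ : μ * (μ * μ) = 1 := by linear_combination (μ - 1) * hμ
  obtain ⟨hκ, hfix, hsur⟩ := torusHom_props hF (μ := μ) (ν := μ * μ) hνμ (by linear_combination hμ)
  obtain ⟨s, hs1, hs2⟩ := st.exists_section he T (torusHom μ (μ * μ)) (torusHom μ (μ * μ))
    (fun a => by rw [hT]; exact (conj_col _ a).trans (by rw [act_torus]; rfl)) hκ hfix hsur
  have hconj : ∀ (g : SL2) (y : L), ψ y = proj (blk g) → ∀ a,
      ψ (y * s a * y⁻¹) = proj (col (act g a)) := fun g y hy a => by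
    rw [map_mul, map_mul, map_inv, hy, hs1]; exact conj_col g a
  have hequiv : ∀ (g : SL2) (y : L), ψ y = proj (blk g) →
      (g * torus μ hμ * g⁻¹ = torus μ hμ ∨ g * torus μ hμ * g⁻¹ = (torus μ hμ)⁻¹) →
        ∀ a, y * s a * y⁻¹ = s (act g a) := fun g y hy hg a => by
    refine hs2 y (act g) (fun b => by rw [hy]; exact conj_col g b) ?_ a
    rw [hy, hT, ← map_inv, ← map_inv, ← map_mul, ← map_mul, ← map_mul, ← map_mul]
    rcases hg with e | e
    · exact Or.inl (by rw [e])
    · exact Or.inr (by rw [e, ← map_inv, ← map_inv])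
  -- the cocycle of the transvection
  set dd : Pair F → L := fun a => U * s a * U⁻¹ * (s (act (upper 1) a))⁻¹ with hdd
  have hddker : ∀ a, ψ (dd a) = 1 := fun a => by
    rw [hdd]; simp only
    rw [map_mul, hconj _ U hU, map_inv, hs1]
    exact mul_inv_cancel _
  have hddmul : ∀ a b, dd (a * b) = dd a * dd b := fun a b => by
    have hm : act (upper 1) (a * b) = act (upper 1) a * act (upper 1) b :=
      Multiplicative.toAdd.injective (Matrix.mulVec_add _ a.toAdd b.toAdd)
    calc dd (a * b) = (U * s a * U⁻¹) * dd b * (s (act (upper 1) a))⁻¹ := by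
          rw [hdd]; simp only; rw [hm, map_mul, map_mul]; group
      _ = dd b * ((U * s a * U⁻¹) * (s (act (upper 1) a))⁻¹) := by
          rw [hc _ (hddker b) (U * s a * U⁻¹), mul_assoc]
      _ = dd b * dd a := rfl
      _ = dd a * dd b := hc _ (hddker a) _
  have hu1 : upper (1 : F) * upper 1 = 1 := by
    rw [upper_add, hadd]
    refine Matrix.SpecialLinearGroup.ext _ _ fun i j => ?_
    fin_cases i <;> fin_cases j <;> simp [coe_upper]
  have hUU : ψ (U * U) = 1 := by rw [map_mul, hU, ← map_mul, ← map_mul, hu1, map_one, map_one]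
  have hddu : ∀ a, dd (act (upper 1) a) = dd a := fun a => by
    have e1 : dd a * dd (act (upper 1) a) = 1 := by
      calc dd a * dd (act (upper 1) a)
          = dd a * (U * s (act (upper 1) a) * U⁻¹) * (s a)⁻¹ := by
            rw [hdd]; simp only; rw [← act_mul, hu1, act_one]; simp only [mul_assoc]
        _ = U * (dd a * s (act (upper 1) a)) * U⁻¹ * (s a)⁻¹ := by
            rw [show dd a * (U * s (act (upper 1) a) * U⁻¹) = U * (dd a * s (act (upper 1) a)) * U⁻¹ by
              rw [← mul_assoc (dd a), ← mul_assoc (dd a), ← hc _ (hddker a) U]; simp only [mul_assoc]]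
        _ = (U * U) * s a * (U * U)⁻¹ * (s a)⁻¹ := by rw [hdd]; group
        _ = 1 := by rw [← hc _ hUU (s a)]; group
    calc dd (act (upper 1) a) = (dd a * dd a) * dd (act (upper 1) a) := by rw [h2 _ (hddker a), one_mul]
      _ = dd a := by rw [mul_assoc, e1, mul_one]
  let D : Multiplicative F →* L := MonoidHom.mk' (fun x => dd (Multiplicative.ofAdd ![0, x.toAdd])) fun x y => by
    rw [← hddmul]
    congr 1
    exact Multiplicative.toAdd.injective (funext fun i => by fin_cases i <;> simp)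
  have hdd1 : ∀ a : Pair F, dd a = D (Multiplicative.ofAdd (a.toAdd 1)) := fun a => by
    have e : a = Multiplicative.ofAdd ![a.toAdd 0, 0] * Multiplicative.ofAdd ![0, a.toAdd 1] :=
      Multiplicative.toAdd.injective (funext fun i => by fin_cases i <;> simp)
    have e' : dd (Multiplicative.ofAdd ![a.toAdd 0, 0]) = 1 := by
      have h := hddu (Multiplicative.ofAdd ![0, a.toAdd 0])
      have hsplit : act (upper 1) (Multiplicative.ofAdd ![0, a.toAdd 0]) =
          Multiplicative.ofAdd ![a.toAdd 0, 0] * Multiplicative.ofAdd ![0, a.toAdd 0] :=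
        Multiplicative.toAdd.injective (funext fun i => by
          fin_cases i <;> simp [act, coe_upper, Matrix.mulVec, dotProduct, Fin.sum_univ_two])
      rw [hsplit, hddmul] at h
      exact mul_eq_right.1 h
    conv_lhs => rw [e, hddmul, e', one_mul]
    rfl
  have hZ1 : D.range ≤ ψ.ker := by
    rintro _ ⟨x, rfl⟩
    exact hddker _
  have : (D.range).Normal := ⟨fun z hz g => by rw [hc z (hZ1 hz) g, mul_inv_cancel_right]; exact hz⟩
  have hmem : ∀ y, y ∈ s.range ⊔ D.range ↔ ∃ a, ∃ z ∈ D.range, s a * z = y := fun y => by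
    rw [mem_sup_of_normal_right]
    constructor
    · rintro ⟨_, ⟨a, rfl⟩, z, hz, rfl⟩; exact ⟨a, z, hz, rfl⟩
    · rintro ⟨a, z, hz, rfl⟩; exact ⟨_, ⟨a, rfl⟩, z, hz, rfl⟩
  set E := s.range ⊔ D.range with hEdef
  have hnorm : ∀ y : L, (∀ a, y * s a * y⁻¹ ∈ E) → y ∈ normalizer (E : Set L) := fun y hy => by
    refine mem_normalizer_fintype fun n hn => ?_
    obtain ⟨a, z, hz, rfl⟩ := (hmem n).1 hn
    have : y * (s a * z) * y⁻¹ = y * s a * y⁻¹ * z := by
      rw [← mul_assoc y, mul_assoc (y * s a) z, ← hc z (hZ1 hz) y⁻¹, ← mul_assoc]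
    show y * (s a * z) * y⁻¹ ∈ E
    rw [this]
    exact mul_mem (hy a) (mem_sup_right hz)
  have hsE : ∀ a, s a ∈ E := fun a => mem_sup_left ⟨a, rfl⟩
  have hTn : T ∈ normalizer (E : Set L) := hnorm T fun a => by
    rw [hequiv _ T hT (Or.inl (mul_inv_cancel_right _ _)) a]; exact hsE _
  have hWn : W ∈ normalizer (E : Set L) := hnorm W fun a => by
    rw [hequiv _ W hW (Or.inr ?_) a]
    · exact hsE _
    · refine eq_inv_of_mul_eq_one_left ?_
      have : weyl * torus μ hμ = (torus μ hμ)⁻¹ * weyl := by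
        rw [eq_inv_mul_iff_mul_eq]
        refine Matrix.SpecialLinearGroup.ext _ _ fun i j => ?_
        fin_cases i <;> fin_cases j <;>
          simp [Matrix.SpecialLinearGroup.coe_mul, coe_torus, coe_weyl, Matrix.mul_apply, Fin.sum_univ_two]
        all_goals linear_combination hνμ
      rw [this, mul_inv_cancel_right, inv_mul_cancel]
  have hUn : U ∈ normalizer (E : Set L) := hnorm U fun a => by
    have : U * s a * U⁻¹ = dd a * s (act (upper 1) a) := by rw [hdd]; simp only; rw [inv_mul_cancel_right]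
    rw [this, hdd1]
    exact mul_mem (mem_sup_right ⟨_, rfl⟩) (hsE _)
  have hall' : ((normalizer (E : Set L)).map ψ).comap (proj.comp blk) = ⊤ :=
    closure_generators hμ hall hadd _ ⟨T, hTn, hT⟩ ⟨W, hWn, hW⟩ ⟨U, hUn, hU⟩
  refine ⟨E, D.range, hZ1, ?_, ?_, fun a => ⟨s a, hsE a, hs1 a⟩, ?_⟩
  · calc Nat.card D.range ≤ Nat.card (Multiplicative F) :=
          Nat.card_le_card_of_surjective _ D.rangeRestrict_surjective
      _ = 4 := by rw [Nat.card_eq_fintype_card, Fintype.card_multiplicative, hF]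
  · intro y hy
    obtain ⟨a, z, hz, rfl⟩ := (hmem y).1 hy
    refine ⟨a, by rw [map_mul, hs1, MonoidHom.mem_ker.1 (hZ1 hz), mul_one]; rfl, fun e => ?_⟩
    rw [e, map_one, one_mul]
    exact hz
  · intro g y hy
    obtain ⟨k, hk, hk'⟩ : g ∈ ((normalizer (E : Set L)).map ψ).comap (proj.comp blk) := hall' ▸ mem_top g
    have hz : ψ (k⁻¹ * y) = 1 := by rw [map_mul, map_inv, hk', hy]; exact inv_mul_cancel _
    have : k⁻¹ * y ∈ normalizer (E : Set L) := hnorm _ fun a => by
      rw [← hc _ hz (s a), mul_inv_cancel_right]; exact hsE a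
    rw [show y = k * (k⁻¹ * y) from (mul_inv_cancel_left _ _).symm]
    exact mul_mem hk this

omit [Finite L] in
theorem card_PSL_three : Nat.card PSL3 = 20160 := by
  have h1 := CfsgLib.Linear.card_PSL_mul (n := Fin 3) (F := F)
  have h2 := CfsgLib.Linear.card_SL_mul (F := F) 3 (by norm_num)
  rw [hF, Fintype.card_fin] at h1
  rw [hF, Fin.prod_univ_three] at h2
  norm_num at h1 h2
  omega

/-- The kernel has order at most four. -/
theorem card_ker_le (hperf : commutator L = ⊤) : Nat.card ψ.ker ≤ 4 := by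
  obtain ⟨C, hC1, hC2⟩ := exists_rows ψ hs hc h2 hF
  obtain ⟨E, Z₁, hZ1, hcard, hE1, hE2, hEn⟩ := exists_columns ψ hs hc h2 hF
  have hCN : C ≤ normalizer (E : Set L) := fun c hc' => by
    obtain ⟨x, hx, -⟩ := hC1 c hc'
    exact hEn (upper x) c (by rw [hx, row_eq_blk])
  set T₀ := C ⊔ E with hT₀
  have hprod : ∀ t ∈ T₀, ∃ c ∈ C, ∃ y ∈ E, c * y = t := fun t ht => by
    have := coe_mul_of_left_le_normalizer_right C E hCN
    exact Set.mem_mul.1 (this ▸ (SetLike.mem_coe.2 ht : t ∈ ((C ⊔ E : Subgroup L) : Set L)))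
  have hTker : ∀ t ∈ T₀, ψ t = 1 → t ∈ Z₁ := fun t ht h => by
    obtain ⟨c, hc', y, hy, rfl⟩ := hprod t ht
    obtain ⟨x, hx, hx1⟩ := hC1 c hc'
    obtain ⟨a, ha, ha1⟩ := hE1 y hy
    rw [map_mul, hx, ha, mul_eq_one_comm, ← map_mul] at h
    obtain ⟨rfl, rfl⟩ := proj_col_row_inj h
    rw [hx1 rfl, one_mul]
    exact ha1 rfl
  let f : F × Pair F → PSL3 := fun p => proj (row (Multiplicative.ofAdd ![p.1, 0])) * proj (col p.2)
  have hf : ∀ p, f p ∈ T₀.map ψ := fun p => by
    obtain ⟨c, hc', hx⟩ := hC2 p.1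
    obtain ⟨y, hy, ha⟩ := hE2 p.2
    exact ⟨c * y, mul_mem (mem_sup_left hc') (mem_sup_right hy), by rw [map_mul, hx, ha]⟩
  have hfinj : Function.Injective f := fun p q h => by
    have hadd := add_self hF
    have hr : ∀ x y : F, Multiplicative.ofAdd ![x, (0 : F)] * Multiplicative.ofAdd ![y, 0] =
        Multiplicative.ofAdd ![x + y, 0] := fun x y =>
      Multiplicative.toAdd.injective (funext fun i => by fin_cases i <;> simp)
    have h' : proj (row (Multiplicative.ofAdd ![q.1 + p.1, 0])) * proj (col (p.2 * q.2)) = 1 := by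
      have h0 : proj (row (Multiplicative.ofAdd ![q.1, 0])) *
          (proj (row (Multiplicative.ofAdd ![p.1, 0])) * proj (col p.2)) = proj (col q.2) := by
        have e1 : proj (row (Multiplicative.ofAdd ![p.1, 0])) * proj (col p.2) =
            proj (row (Multiplicative.ofAdd ![q.1, 0])) * proj (col q.2) := h
        rw [e1, ← mul_assoc, ← map_mul proj (row _) (row _), ← map_mul row, pair_sq hF, map_one, map_one, one_mul]
      rw [← hr, map_mul, map_mul, map_mul, map_mul, ← mul_assoc, mul_assoc _ _ (proj (col p.2)), h0,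
        ← map_mul, ← map_mul, pair_sq hF, map_one, map_one]
    rw [mul_eq_one_comm, ← map_mul] at h'
    obtain ⟨e2, e1⟩ := proj_col_row_inj h'
    refine Prod.ext ?_ ?_
    · linear_combination e1 - hadd q.1
    · calc p.2 = p.2 * (q.2 * q.2) := by rw [pair_sq hF, mul_one]
        _ = q.2 := by rw [← mul_assoc, e2, one_mul]
  have hUcard : Nat.card (T₀.map ψ) = 64 := by
    have hsur : Function.Surjective fun p => (⟨f p, hf p⟩ : T₀.map ψ) := by
      rintro ⟨_, t, ht, rfl⟩
      obtain ⟨c, hc', y, hy, rfl⟩ := hprod t ht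
      obtain ⟨x, hx, -⟩ := hC1 c hc'
      obtain ⟨a, ha, -⟩ := hE1 y hy
      exact ⟨(x, a), Subtype.ext (show f (x, a) = ψ (c * y) by rw [map_mul, hx, ha])⟩
    rw [← Nat.card_congr (Equiv.ofBijective _
      ⟨fun p q h => hfinj (congrArg Subtype.val h), hsur⟩)]
    simp [Nat.card_prod, Nat.card_eq_fintype_card, hF]
  set H := (T₀.map ψ).comap ψ with hHdef
  have hindex : H.index = 315 := by
    rw [hHdef, index_comap_of_surjective _ hs]
    have := (T₀.map ψ).index_mul_card
    rw [hUcard, card_PSL_three ψ hs hc h2 hF] at this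
    omega
  have hcomm : ∀ x : H, x ∈ commutator H → (x : L) ∈ T₀ := by
    intro x hx
    suffices h : commutator H ≤ T₀.comap H.subtype from h hx
    rw [commutator_eq_closure, closure_le]
    rintro _ ⟨⟨a, t, ht, hta⟩, ⟨b, u, hu, hub⟩, rfl⟩
    show ⁅a, b⁆ ∈ T₀
    have ha : ψ (t⁻¹ * a) = 1 := by rw [map_mul, map_inv, hta, inv_mul_cancel]
    have hb : ψ (u⁻¹ * b) = 1 := by rw [map_mul, map_inv, hub, inv_mul_cancel]
    have : ⁅a, b⁆ = ⁅t, u⁆ := by
      rw [← mul_inv_cancel_left t a, ← mul_inv_cancel_left u b]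
      generalize t⁻¹ * a = z at ha
      generalize u⁻¹ * b = w at hb
      rw [commutatorElement_def, commutatorElement_def]
      calc t * z * (u * w) * (t * z)⁻¹ * (u * w)⁻¹ = t * (z * u) * (w * z⁻¹ * t⁻¹) * w⁻¹ * u⁻¹ := by group
        _ = t * (u * z) * (z⁻¹ * t⁻¹ * w) * w⁻¹ * u⁻¹ := by
          rw [← hc z ha u, mul_assoc w z⁻¹ t⁻¹, ← hc w hb (z⁻¹ * t⁻¹)]
        _ = _ := by group
    rw [this, commutatorElement_def]
    exact mul_mem (mul_mem (mul_mem ht hu) (inv_mem ht)) (inv_mem hu)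
  refine le_trans (Subgroup.card_le_of_le fun z hz => ?_) hcard
  have key : ∀ (k : ℕ) (g₀ : L), g₀⁻¹ * z ^ k * g₀ ∈ H → g₀⁻¹ * z ^ k * g₀ = z ^ k := fun k g _ => by
    have hk : ψ (z ^ k) = 1 := by rw [map_pow, MonoidHom.mem_ker.1 hz, one_pow]
    rw [mul_assoc, ← hc _ hk g, inv_mul_cancel_left]
  have htr := MonoidHom.transfer_eq_pow (Abelianization.of : H →* Abelianization H) z key
  have hone : MonoidHom.transfer (Abelianization.of : H →* Abelianization H) z = 1 :=
    Abelianization.commutator_subset_ker _ (hperf ▸ mem_top z)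
  rw [hone, eq_comm, ← MonoidHom.mem_ker, Abelianization.ker_of] at htr
  have hz' : z ^ H.index ∈ T₀ := hcomm _ htr
  have hpow : z ^ H.index = z := by
    rw [hindex, show (315 : ℕ) = 2 * 157 + 1 by norm_num, pow_succ, pow_mul, pow_two,
      h2 z hz, one_pow, one_mul]
  rw [hpow] at hz'
  exact hTker z hz' hz

omit ψ hs hc h2 hF

/-- Two perfect covers with central kernels of order four and exponent two are isomorphic. -/
theorem covers_iso {L₁ L₂ : Type*} [Group L₁] [Finite L₁] [Group L₂] [Finite L₂]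
    (hF : Fintype.card F = 4) (φ₁ : L₁ →* PSL3) (φ₂ : L₂ →* PSL3)
    (hs₁ : Function.Surjective φ₁) (hs₂ : Function.Surjective φ₂)
    (hp₁ : commutator L₁ = ⊤) (hp₂ : commutator L₂ = ⊤)
    (hk₁ : φ₁.ker = center L₁) (hk₂ : φ₂.ker = center L₂)
    (hc₁ : Nat.card (center L₁) = 4) (hc₂ : Nat.card (center L₂) = 4)
    (he₁ : ∀ x ∈ center L₁, x * x = 1) (he₂ : ∀ x ∈ center L₂, x * x = 1) :
    Nonempty (L₁ ≃* L₂) := by
  set P₀ := (φ₁.comp (MonoidHom.fst L₁ L₂)).eqLocus (φ₂.comp (MonoidHom.snd L₁ L₂)) with hP₀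
  set P : Subgroup (L₁ × L₂) := ⁅P₀, P₀⁆ with hP
  have hPP : P ≤ P₀ := commutator_le_self _
  have hfst0 : P₀.map (MonoidHom.fst L₁ L₂) = ⊤ := by
    refine eq_top_iff.2 fun x _ => ?_
    obtain ⟨y, hy⟩ := hs₂ (φ₁ x)
    exact ⟨(x, y), hy.symm, rfl⟩
  have hsnd0 : P₀.map (MonoidHom.snd L₁ L₂) = ⊤ := by
    refine eq_top_iff.2 fun y _ => ?_
    obtain ⟨x, hx⟩ := hs₁ (φ₂ y)
    exact ⟨(x, y), hx, rfl⟩
  have hfst : P.map (MonoidHom.fst L₁ L₂) = ⊤ := by rw [hP, map_commutator, hfst0]; exact hp₁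
  have hsnd : P.map (MonoidHom.snd L₁ L₂) = ⊤ := by rw [hP, map_commutator, hsnd0]; exact hp₂
  have hcen : ∀ p ∈ P₀, ∃ q ∈ P, q⁻¹ * p ∈ center (L₁ × L₂) := by
    intro p hp
    obtain ⟨q, hq, hqp⟩ : p.1 ∈ P.map (MonoidHom.fst L₁ L₂) := hfst ▸ mem_top _
    have e1 : (q⁻¹ * p).1 = 1 := by
      show q.1⁻¹ * p.1 = 1
      rw [← hqp]; exact inv_mul_cancel _
    have e2 : φ₂ (q⁻¹ * p).2 = 1 := by
      have : φ₁ (q⁻¹ * p).1 = φ₂ (q⁻¹ * p).2 := mul_mem (inv_mem (hPP hq)) hp
      rw [← this, e1, map_one]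
    refine ⟨q, hq, mem_center_iff.2 fun g => Prod.ext ?_ ?_⟩
    · simp only [Prod.fst_mul] at e1 ⊢; rw [e1, mul_one, one_mul]
    · exact mem_center_iff.1 (hk₂ ▸ MonoidHom.mem_ker.2 e2) g.2
  have hperf : commutator P = ⊤ := by
    refine (map_subtype_inj).1 ?_
    rw [map_subtype_commutator, ← MonoidHom.range_eq_map, range_subtype]
    refine le_antisymm (commutator_le_self _) ?_
    conv_lhs => rw [hP]
    rw [commutator_le]
    intro a ha b hb
    obtain ⟨a', ha', hza⟩ := hcen a ha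
    obtain ⟨b', hb', hzb⟩ := hcen b hb
    have : ⁅a, b⁆ = ⁅a', b'⁆ := by
      rw [← mul_inv_cancel_left a' a, ← mul_inv_cancel_left b' b]
      generalize a'⁻¹ * a = z at hza
      generalize b'⁻¹ * b = w at hzb
      rw [commutatorElement_def, commutatorElement_def]
      calc a' * z * (b' * w) * (a' * z)⁻¹ * (b' * w)⁻¹
          = a' * (z * b') * (w * z⁻¹ * a'⁻¹) * w⁻¹ * b'⁻¹ := by group
        _ = a' * (b' * z) * (z⁻¹ * a'⁻¹ * w) * w⁻¹ * b'⁻¹ := by
          rw [← mem_center_iff.1 hza b', mul_assoc w z⁻¹ a'⁻¹, ← mem_center_iff.1 hzb (z⁻¹ * a'⁻¹)]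
        _ = _ := by group
    rw [this]
    exact commutator_mem_commutator ha' hb'
  let π₁ : P →* L₁ := (MonoidHom.fst L₁ L₂).comp P.subtype
  let π₂ : P →* L₂ := (MonoidHom.snd L₁ L₂).comp P.subtype
  have hπ₁ : Function.Surjective π₁ := fun x => by
    obtain ⟨q, hq, e⟩ : x ∈ P.map (MonoidHom.fst L₁ L₂) := hfst ▸ mem_top _
    exact ⟨⟨q, hq⟩, e⟩
  have hπ₂ : Function.Surjective π₂ := fun x => by
    obtain ⟨q, hq, e⟩ : x ∈ P.map (MonoidHom.snd L₁ L₂) := hsnd ▸ mem_top _
    exact ⟨⟨q, hq⟩, e⟩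
  let ψ : P →* PSL3 := φ₁.comp π₁
  have hker : ∀ p : P, ψ p = 1 → p.1.1 ∈ center L₁ ∧ p.1.2 ∈ center L₂ := fun p hp =>
    ⟨hk₁ ▸ MonoidHom.mem_ker.2 hp, hk₂ ▸ MonoidHom.mem_ker.2 ((hPP p.2).symm.trans hp)⟩
  have hle : Nat.card ψ.ker ≤ 4 :=
    card_ker_le ψ (hs₁.comp hπ₁)
      (fun z hz x => Subtype.ext (Prod.ext (mem_center_iff.1 (hker z hz).1 x.1.1)
        (mem_center_iff.1 (hker z hz).2 x.1.2)))
      (fun z hz => Subtype.ext (Prod.ext (he₁ _ (hker z hz).1) (he₂ _ (hker z hz).2))) hF hperf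
  have hcardP : Nat.card P ≤ 4 * Nat.card PSL3 := by
    rw [card_eq_card_quotient_mul_card_subgroup ψ.ker,
      Nat.card_congr (QuotientGroup.quotientKerEquivOfSurjective ψ (hs₁.comp hπ₁)).toEquiv, mul_comm]
    exact Nat.mul_le_mul_right _ hle
  have hL₁ : Nat.card L₁ = 4 * Nat.card PSL3 := by
    rw [card_eq_card_quotient_mul_card_subgroup φ₁.ker,
      Nat.card_congr (QuotientGroup.quotientKerEquivOfSurjective φ₁ hs₁).toEquiv, hk₁, hc₁, mul_comm]
  have hL₂ : Nat.card L₂ = 4 * Nat.card PSL3 := by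
    rw [card_eq_card_quotient_mul_card_subgroup φ₂.ker,
      Nat.card_congr (QuotientGroup.quotientKerEquivOfSurjective φ₂ hs₂).toEquiv, hk₂, hc₂, mul_comm]
  have b₁ := hπ₁.bijective_of_nat_card_le (hL₁ ▸ hcardP)
  have b₂ := hπ₂.bijective_of_nat_card_le (hL₂ ▸ hcardP)
  exact ⟨(MulEquiv.ofBijective π₁ b₁).symm.trans (MulEquiv.ofBijective π₂ b₂)⟩

end CfsgLib.LinearThreeFour
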